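import Mathlib.RingTheory.Flat.TorsionFree
import Mathlib.RingTheory.Flat.EquationalCriterion
import Mathlib.RingTheory.Flat.Localization
import Mathlib.RingTheory.LocalRing.Module
import Mathlib.RingTheory.Valuation.ValuationRing
import Mathlib.RingTheory.Localization.Pi
import Mathlib.RingTheory.Valuation.LocalSubring
import Mathlib.Algebra.Module.Projective
import Mathlib.RingTheory.Localization.Module

/-!
# Rings of weak dimension at most one
-/

set_option autoImplicit false
set_option linter.style.haveILetI false

namespace Groth.L05.WeakDim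

universe u v

variable {A : Type u} [CommRing A]

/-- It is enough that finitely generated ideals are flat. -/
theorem flat_of_fg (h : ∀ I : Ideal A, I.FG → Module.Flat A I) (I : Ideal A) : Module.Flat A I := by
  classical
  rw [Module.Flat.iff_forall_isTrivialRelation]
  intro l f x hfx
  let I' : Ideal A := Ideal.span (Set.range fun i => (x i : A))
  have hI' : I' ≤ I := Ideal.span_le.mpr (by rintro _ ⟨i, rfl⟩; exact (x i).2)
  haveI := h I' ⟨Finset.univ.image fun i => (x i : A), by simp [I']⟩
  let x' : Fin l → I' := fun i => ⟨x i, Ideal.subset_span ⟨i, rfl⟩⟩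
  have hfx' : ∑ i, f i • x' i = 0 := Subtype.ext (by
    simpa [x', Submodule.coe_sum] using congrArg Subtype.val hfx)
  obtain ⟨k, a, y, hxy, ha⟩ := Module.Flat.isTrivialRelation_of_sum_smul_eq_zero hfx'
  refine ⟨k, a, fun j => Submodule.inclusion hI' (y j), fun i => ?_, ha⟩
  have := congrArg (Submodule.inclusion hI') (hxy i)
  rw [map_sum] at this
  simp only [map_smul] at this
  rw [← this]
  rfl

/-- Submodules of flat modules are flat when all ideals are flat. -/
theorem flat_submodule (h : ∀ I : Ideal A, Module.Flat A I) (M : Type v) [AddCommGroup M] [Module A M]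
    [Module.Flat A M] (N : Submodule A M) : Module.Flat A N := by
  rw [Module.Flat.iff_lift_lsmul_comp_subtype_injective]
  intro I hI
  haveI := h I
  have h1 := Module.Flat.lTensor_preserves_injective_linearMap (M := I) N.subtype N.injective_subtype
  have h2 : Function.Injective (TensorProduct.lift ((LinearMap.lsmul A M).comp I.subtype)) :=
    Module.Flat.iff_lift_lsmul_comp_subtype_injective.mp ‹Module.Flat A M› hI
  have h3 : N.subtype ∘ₗ TensorProduct.lift ((LinearMap.lsmul A N).comp I.subtype) =
      TensorProduct.lift ((LinearMap.lsmul A M).comp I.subtype) ∘ₗ N.subtype.lTensor I :=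
    TensorProduct.ext' fun i n => by simp
  refine Function.Injective.of_comp (f := N.subtype) ?_
  rw [← LinearMap.coe_comp, h3, LinearMap.coe_comp]
  exact h2.comp h1

/-- A local ring whose finitely generated ideals are flat is a valuation ring. -/
theorem valuationRing_of_flat [IsLocalRing A] (h : ∀ I : Ideal A, I.FG → Module.Flat A I) :
    ∃ _ : IsDomain A, ValuationRing A := by
  classical
  have hgen : ∀ I : Ideal A, I.FG → I = ⊥ ∨ ∃ c, I = Ideal.span {c} ∧ ∀ r, r * c = 0 → r = 0 := by
    intro I hI
    haveI := h I hI
    haveI : Module.Finite A I := Module.Finite.iff_fg.mpr hI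
    haveI : Module.Free A I := Module.free_of_flat_of_isLocalRing
    let b := Module.Free.chooseBasis A I
    haveI : Subsingleton (Module.Free.ChooseBasisIndex A I) := ⟨fun i j => by
      by_contra hij
      have h1 : (b j : A) • b i = (b i : A) • b j := Subtype.ext (by simp [mul_comm])
      have h2 := congrArg (fun z => b.repr z i) h1
      simp only [map_smul, b.repr_self, Finsupp.smul_apply, Finsupp.single_eq_same,
        Finsupp.single_eq_of_ne hij, smul_eq_mul, mul_one, mul_zero] at h2
      exact b.ne_zero j (Subtype.ext h2)⟩
    rcases isEmpty_or_nonempty (Module.Free.ChooseBasisIndex A I) with he | ⟨⟨i⟩⟩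
    · left
      haveI : Subsingleton I := b.repr.toEquiv.subsingleton
      exact Submodule.subsingleton_iff_eq_bot.mp inferInstance
    · right
      haveI : Unique (Module.Free.ChooseBasisIndex A I) := uniqueOfSubsingleton i
      refine ⟨b i, le_antisymm (fun x hx => ?_) (Ideal.span_le.mpr (by simp)), fun r hr => ?_⟩
      · have h1 := b.sum_repr ⟨x, hx⟩
        rw [Fintype.sum_subsingleton _ i] at h1
        exact Ideal.mem_span_singleton'.mpr ⟨_, congrArg Subtype.val h1⟩
      · have h1 : r • b i = 0 := Subtype.ext (by simpa using hr)
        have h2 := congrArg (fun z => b.repr z i) h1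
        simpa using h2
  haveI hdom : IsDomain A := by
    haveI : NoZeroDivisors A := ⟨fun {a b} hab => by
      rcases hgen (Ideal.span {b}) (Submodule.fg_span_singleton b) with h0 | ⟨c, hc, hreg⟩
      · exact Or.inr (Ideal.span_singleton_eq_bot.mp h0)
      · left
        refine hreg a ?_
        obtain ⟨t, ht⟩ := Ideal.mem_span_singleton'.mp (hc.ge (Ideal.mem_span_singleton_self c))
        rw [← ht, mul_left_comm, hab, mul_zero]⟩
    exact NoZeroDivisors.to_isDomain A
  refine ⟨hdom, ValuationRing.iff_dvd_total.mpr ⟨fun a b => ?_⟩⟩
  rcases hgen (Ideal.span {a, b}) (Submodule.fg_span (Set.toFinite _)) with h0 | ⟨c, hc, hreg⟩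
  · have : a = 0 := by simpa using h0.le (Ideal.subset_span (Set.mem_insert a {b}))
    exact Or.inr (this ▸ dvd_zero b)
  obtain ⟨x, hx⟩ := Ideal.mem_span_singleton'.mp (hc.le (Ideal.subset_span (Set.mem_insert a {b})))
  obtain ⟨y, hy⟩ := Ideal.mem_span_singleton'.mp (hc.le (Ideal.subset_span (Set.mem_insert_of_mem a rfl)))
  obtain ⟨s, t, hst⟩ := Ideal.mem_span_pair.mp (hc.ge (Ideal.mem_span_singleton_self c))
  have h1 : s * x + t * y = 1 := by
    have := hreg (s * x + t * y - 1) (by linear_combination s * hx + t * hy + hst)
    linear_combination this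
  rcases IsLocalRing.isUnit_or_isUnit_of_add_one h1 with hu | hu
  · exact Or.inl ⟨y * (isUnit_of_mul_isUnit_right hu).unit⁻¹, by
      rw [← hx, ← hy]
      have := (isUnit_of_mul_isUnit_right hu).val_inv_mul
      linear_combination -y * c * this⟩
  · exact Or.inr ⟨x * (isUnit_of_mul_isUnit_right hu).unit⁻¹, by
      rw [← hx, ← hy]
      have := (isUnit_of_mul_isUnit_right hu).val_inv_mul
      linear_combination -x * c * this⟩

/-- Local rings being valuation domains, all ideals are flat. -/
theorem flat_of_local (h : ∀ (p : Ideal A) [p.IsMaximal],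
    ∃ _ : IsDomain (Localization.AtPrime p), ValuationRing (Localization.AtPrime p)) (I : Ideal A) :
    Module.Flat A I := by
  let Ap : ∀ (p : Ideal A), [p.IsMaximal] → Type u := fun p _ => Localization.AtPrime p
  refine Module.flat_of_isLocalized_maximal (R := A) A I
    (fun p [p.IsMaximal] => Submodule.localized' (Localization.AtPrime p) p.primeCompl
      (Algebra.linearMap A (Localization.AtPrime p)) I)
    (fun p [p.IsMaximal] => Submodule.toLocalized' (Localization.AtPrime p) p.primeCompl
      (Algebra.linearMap A (Localization.AtPrime p)) I) ?_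
  intro p hp
  obtain ⟨hd, hv⟩ := h p
  haveI := hd
  haveI := hv
  let J := Submodule.localized' (Localization.AtPrime p) p.primeCompl
      (Algebra.linearMap A (Localization.AtPrime p)) I
  haveI : Module.Flat (Localization.AtPrime p) J := by
    rw [Module.Flat.flat_iff_torsion_eq_bot_of_isBezout]
    exact (Submodule.isTorsionFree_iff_torsion_eq_bot).mp inferInstance
  haveI : Module.Flat A (Localization.AtPrime p) := IsLocalization.flat _ p.primeCompl
  exact Module.Flat.trans A (Localization.AtPrime p) J

/-- Localizations inherit flatness of ideals. -/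
theorem flat_localization (h : ∀ I : Ideal A, Module.Flat A I) (M : Submonoid A) (B : Type u) [CommRing B]
    [Algebra A B] [IsLocalization M B] (J : Ideal B) : Module.Flat B J := by
  haveI : Module.Flat A B := IsLocalization.flat B M
  haveI : Module.Flat A J := flat_submodule h B (J.restrictScalars A)
  exact (Module.flat_iff_of_isLocalization B M J).mpr ‹_›

end Groth.L05.WeakDim
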