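import Groth.Agent.L05.WeakDim.Basic

/-!
# Products of valuation rings
-/

set_option autoImplicit false
set_option linter.style.haveILetI false

namespace Groth.L05.WeakDim

universe u v

variable {J : Type u} (A : J → Type v) [∀ j, CommRing (A j)] [∀ j, IsDomain (A j)] [∀ j, ValuationRing (A j)]

theorem isBezout_pi : IsBezout (∀ j, A j) := by
  classical
  refine IsBezout.iff_span_pair_isPrincipal.mpr fun a b => ?_
  let c : ∀ j, A j := fun j => if a j ∣ b j then a j else b j
  have hca : ∀ j, c j ∣ a j := fun j => by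
    simp only [c]; split_ifs with h
    · exact dvd_rfl
    · exact (ValuationRing.dvd_total (a j) (b j)).resolve_left h
  have hcb : ∀ j, c j ∣ b j := fun j => by
    simp only [c]; split_ifs with h
    · exact h
    · exact dvd_rfl
  refine ⟨c, le_antisymm (Ideal.span_le.mpr ?_) (Ideal.span_le.mpr ?_)⟩
  · rintro x (rfl | rfl)
    · choose q hq using hca
      exact Ideal.mem_span_singleton'.mpr ⟨q, funext fun j => by rw [Pi.mul_apply, mul_comm]; exact (hq j).symm⟩
    · choose q hq using hcb
      exact Ideal.mem_span_singleton'.mpr ⟨q, funext fun j => by rw [Pi.mul_apply, mul_comm]; exact (hq j).symm⟩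
  · rintro x rfl
    refine Ideal.mem_span_pair.mpr ⟨fun j => if a j ∣ b j then 1 else 0, fun j => if a j ∣ b j then 0 else 1,
      funext fun j => ?_⟩
    simp only [c, Pi.add_apply, Pi.mul_apply]
    split_ifs <;> simp

theorem flat_pi (I : Ideal (∀ j, A j)) : Module.Flat (∀ j, A j) I := by
  classical
  refine flat_of_fg (fun I hI => ?_) I
  haveI := isBezout_pi A
  obtain ⟨c, rfl⟩ := (IsBezout.isPrincipal_of_FG I hI).principal
  let e : ∀ j, A j := fun j => if c j = 0 then 0 else 1
  let π : (∀ j, A j) →ₗ[∀ j, A j] (∀ j, A j) ∙ c :=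
    (LinearMap.toSpanSingleton (∀ j, A j) (∀ j, A j) c).codRestrict _ fun r =>
      Submodule.mem_span_singleton.mpr ⟨r, rfl⟩
  have hπ : ∀ r, (π r : ∀ j, A j) = r * c := fun r => rfl
  -- the section
  have hker : ∀ r, r * c = 0 → r * e = 0 := fun r hr => funext fun j => by
    have h := congrFun hr j
    simp only [e, Pi.mul_apply, Pi.zero_apply] at h ⊢
    split_ifs with hc
    · rw [mul_zero]
    · rw [(mul_eq_zero.mp h).resolve_right hc, zero_mul]
  have hec : e * c = c := funext fun j => by
    simp only [e, Pi.mul_apply]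
    split_ifs with hc
    · rw [hc, zero_mul]
    · rw [one_mul]
  have hsurj : Function.Surjective π := fun x => by
    obtain ⟨r, hr⟩ := Submodule.mem_span_singleton.mp x.2
    exact ⟨r, Subtype.ext hr⟩
  let s₀ : (∀ j, A j) →ₗ[∀ j, A j] (∀ j, A j) := LinearMap.mulRight (∀ j, A j) e
  let s : ((∀ j, A j) ∙ c : Submodule (∀ j, A j) (∀ j, A j)) →ₗ[∀ j, A j] (∀ j, A j) :=
    (Submodule.liftQ (LinearMap.ker π) s₀ (fun r hr => hker r (congrArg Subtype.val hr))).comp
      (π.quotKerEquivOfSurjective hsurj).symm.toLinearMap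
  haveI : Module.Projective (∀ j, A j) ((∀ j, A j) ∙ c : Submodule (∀ j, A j) (∀ j, A j)) := by
    refine Module.Projective.of_split s π (LinearMap.ext fun x => ?_)
    obtain ⟨r, rfl⟩ := hsurj x
    apply Subtype.ext
    simp only [s, LinearMap.comp_apply, LinearEquiv.coe_coe, LinearMap.quotKerEquivOfSurjective_symm_apply,
      Submodule.liftQ_apply, LinearMap.id_apply, hπ]
    show r * e * c = r * c
    rw [mul_assoc, hec]
  exact Module.Flat.of_projective

variable (K : J → Type v) [∀ j, Field (K j)] [∀ j, Algebra (A j) (K j)] [∀ j, IsFractionRing (A j) (K j)]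

theorem isLocalization_pi : IsLocalization (nonZeroDivisors (∀ j, A j)) (∀ j, K j) := by
  classical
  have h : nonZeroDivisors (∀ j, A j) = Submonoid.pi Set.univ fun j => nonZeroDivisors (A j) := by
    ext x
    simp only [Submonoid.mem_pi, Set.mem_univ, forall_true_left, mem_nonZeroDivisors_iff_ne_zero]
    refine ⟨fun hx j hj => ?_, fun hx => mem_nonZeroDivisors_iff_right.mpr fun y hy => funext fun j =>
      (mul_eq_zero.mp (congrFun hy j)).resolve_right (hx j)⟩
    have h1 : Pi.single j (1 : A j) * x = 0 := funext fun i => by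
      rcases eq_or_ne i j with rfl | hij
      · simp [hj]
      · simp [Pi.single_eq_of_ne hij]
    have := congrFun (mem_nonZeroDivisors_iff_right.mp hx _ h1) j
    simp at this
  rw [h]
  infer_instance

end Groth.L05.WeakDim
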